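import Mathlib

/-!
# The hypothesis `HYP(m, q)` of bb #11884 and its step (1)

`A₁ = β₁(X₁)`, `A₂ = β₂(X₂)` elementary abelian, `N(Aᵢ)` semilinear on `Xᵢ` and containing all transvections,
`[A₁, A₂] ≤ R = β₁(F₁ e₁) = β₂(F₂ e₂)`, `N(R) ≤ N(A₁) ∩ N(A₂)`.

(1): `A₂` induces on `X₁` the full group of transvections with centre `F₁ e₁`; `C_{A₂}(A₁) = R`.
-/

set_option autoImplicit false

open Submodule Module

namespace Cfsg.Agent.Omega.LN

/-- One side: `A = β(X)`, its normaliser acts semilinearly and contains all transvections. -/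
structure Side (F : Type*) {G X : Type*} [Group G] [Field F] [AddCommGroup X] [Module F X]
    (β : X → G) : Prop where
  add : ∀ x y, β (x + y) = β x * β y
  inj : ∀ x, β x = 1 → x = 0
  semi : ∀ g : G, (∀ x, ∃ y, g * β x * g⁻¹ = β y) → ∃ (σ : F ≃+* F) (γ : X ≃+ X),
    (∀ (a : F) (x : X), γ (a • x) = σ a • γ x) ∧ ∀ x, g * β x * g⁻¹ = β (γ x)
  sl : ∀ (φ : Dual F X) (b : X), φ b = 0 → ∃ g : G, ∀ x, g * β x * g⁻¹ = β (x + φ x • b)

namespace Side

variable {F G X : Type*} [Group G] [Field F] [AddCommGroup X] [Module F X] {β : X → G}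

theorem zero (s : Side F β) : β 0 = 1 := by
  have h := s.add 0 0
  rw [add_zero] at h
  exact left_eq_mul.mp h

theorem neg (s : Side F β) (x : X) : β (-x) = (β x)⁻¹ := by
  rw [eq_inv_iff_mul_eq_one, ← s.add, neg_add_cancel, s.zero]

theorem injective (s : Side F β) {x y : X} (h : β x = β y) : x = y := by
  rw [← sub_eq_zero]
  apply s.inj
  rw [sub_eq_add_neg, s.add, s.neg, h, mul_inv_cancel]

theorem comm (s : Side F β) (x y : X) : β x * β y = β y * β x := by
  rw [← s.add, ← s.add, add_comm]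

/-- the subgroup `A = β(X)` -/
def A (s : Side F β) : Subgroup G where
  carrier := Set.range β
  one_mem' := ⟨0, s.zero⟩
  mul_mem' := by
    rintro _ _ ⟨x, rfl⟩ ⟨y, rfl⟩
    exact ⟨x + y, s.add x y⟩
  inv_mem' := by
    rintro _ ⟨x, rfl⟩
    exact ⟨-x, s.neg x⟩

theorem mem_A (s : Side F β) {g : G} : g ∈ s.A ↔ ∃ x, β x = g := Iff.rfl

theorem β_mem (s : Side F β) (x : X) : β x ∈ s.A := ⟨x, rfl⟩

/-- the normaliser of `A` -/
def M (s : Side F β) : Subgroup G := Subgroup.normalizer (s.A : Set G)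

theorem mem_M [Finite X] (s : Side F β) {g : G} :
    g ∈ s.M ↔ ∀ x, ∃ y, g * β x * g⁻¹ = β y := by
  constructor
  · intro h x
    obtain ⟨y, hy⟩ := (Subgroup.mem_normalizer_iff.mp h (β x)).mp (s.β_mem x)
    exact ⟨y, hy.symm⟩
  · intro h
    have hfin : Finite s.A := by
      have : Finite (Set.range β) := Set.finite_range β
      exact this
    have h1 : s.A.map (MulAut.conj g).toMonoidHom ≤ s.A := by
      rintro _ ⟨a, ⟨x, rfl⟩, rfl⟩
      obtain ⟨y, hy⟩ := h x
      exact ⟨y, hy.symm⟩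
    have h2 : s.A.map (MulAut.conj g).toMonoidHom = s.A := by
      apply Subgroup.eq_of_le_of_card_ge h1
      rw [Subgroup.card_map_of_injective (MulAut.conj g).injective]
    apply Subgroup.mem_normalizer_iff.mpr
    intro k
    constructor
    · intro hk
      rw [← h2]
      exact ⟨k, hk, rfl⟩
    · intro hk
      rw [← h2] at hk
      obtain ⟨k', hk', h3⟩ := hk
      have h4 : k' = k := (MulAut.conj g).injective h3
      rwa [← h4]

theorem A_le_M (s : Side F β) : s.A ≤ s.M := Subgroup.le_normalizer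

/-- the semilinear action -/
theorem semi' [Finite X] (s : Side F β) {g : G} (hg : g ∈ s.M) : ∃ (σ : F ≃+* F) (γ : X ≃+ X),
    (∀ (a : F) (x : X), γ (a • x) = σ a • γ x) ∧ ∀ x, g * β x * g⁻¹ = β (γ x) :=
  s.semi g (s.mem_M.mp hg)

/-- all transvections, in `M` -/
theorem sl' [Finite X] (s : Side F β) (φ : Dual F X) (b : X) (hb : φ b = 0) :
    ∃ g ∈ s.M, ∀ x, g * β x * g⁻¹ = β (x + φ x • b) := by
  obtain ⟨g, hg⟩ := s.sl φ b hb
  exact ⟨g, s.mem_M.mpr fun x => ⟨_, hg x⟩, hg⟩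

end Side

/-- a functional with prescribed values on two independent vectors -/
theorem exists_dual {F X : Type*} [Field F] [AddCommGroup X] [Module F X] {u v : X} (hu : u ≠ 0)
    (hv : v ∉ span F {u}) : ∃ φ : Dual F X, φ u = 0 ∧ φ v = 1 := by
  obtain ⟨φ, h1, h2⟩ := Submodule.exists_le_ker_of_notMem hv
  have h3 : φ u = 0 := h2 (mem_span_singleton_self u)
  refine ⟨(φ v)⁻¹ • φ, by rw [LinearMap.smul_apply, h3, smul_zero], ?_⟩
  rw [LinearMap.smul_apply, smul_eq_mul, inv_mul_cancel₀ h1]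

/-- `M` is transitive on the nonzero vectors (`dim ≥ 2`) -/
theorem Side.exists_map {F G X : Type*} [Group G] [Field F] [AddCommGroup X] [Module F X] {β : X → G}
    [Finite X] (s : Side F β) (h2 : 2 ≤ finrank F X) {u v : X} (hu : u ≠ 0) (hv : v ≠ 0) :
    ∃ g ∈ s.M, ∃ γ : X ≃+ X, (∀ (a : F) x, γ (a • x) = a • γ x) ∧ (∀ x, g * β x * g⁻¹ = β (γ x)) ∧
      γ u = v := by
  -- transvections as linear equivalences
  have key : ∀ u v : X, u ≠ 0 → v ∉ span F {u} → ∃ g ∈ s.M, ∃ γ : X ≃+ X,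
      (∀ (a : F) x, γ (a • x) = a • γ x) ∧ (∀ x, g * β x * g⁻¹ = β (γ x)) ∧ γ u = v := by
    intro u v hu hv
    have hv0 : v ≠ 0 := by
      rintro rfl
      exact hv (zero_mem _)
    -- `φ u = 1`, `φ (v - u) = 0`
    have h1 : v - u ∉ span F {u} := by
      intro h
      apply hv
      have h3 := add_mem h (mem_span_singleton_self u)
      rwa [sub_add_cancel] at h3
    have hne : v - u ≠ 0 := by
      intro h
      exact h1 (by rw [h]; exact zero_mem _)
    have h3 : u ∉ span F {v - u} := by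
      intro h
      rw [mem_span_singleton] at h
      obtain ⟨a, ha⟩ := h
      have ha0 : a ≠ 0 := by
        rintro rfl
        rw [zero_smul] at ha
        exact hu ha.symm
      apply h1
      rw [mem_span_singleton]
      exact ⟨a⁻¹, by rw [inv_smul_eq_iff₀ ha0, ha]⟩
    obtain ⟨φ, hφ1, hφ2⟩ := exists_dual hne h3
    obtain ⟨g, hg, hg'⟩ := s.sl' φ (v - u) hφ1
    let γ : X ≃+ X :=
      { toFun := fun x => x + φ x • (v - u)
        invFun := fun x => x - φ x • (v - u)
        left_inv := fun x => by simp only [map_add, map_smul, hφ1, smul_zero, add_zero]; abel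
        right_inv := fun x => by simp only [map_sub, map_smul, hφ1, smul_zero, sub_zero]; abel
        map_add' := fun x y => by simp only [map_add, add_smul]; abel }
    refine ⟨g, hg, γ, ?_, hg', ?_⟩
    · intro a x
      change a • x + φ (a • x) • (v - u) = a • (x + φ x • (v - u))
      rw [map_smul, smul_add, smul_smul, smul_eq_mul]
    · change u + φ u • (v - u) = v
      rw [hφ2, one_smul]
      abel
  by_cases h : v ∈ span F {u}
  · -- go through a third vector
    obtain ⟨w, hw⟩ : ∃ w, w ∉ span F {u} := by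
      by_contra hcon
      push Not at hcon
      have h3 : span F {u} = ⊤ := eq_top_iff.mpr fun x _ => hcon x
      have h4 := finrank_span_le_card (R := F) ({u} : Set X)
      rw [h3, finrank_top] at h4
      simp at h4
      omega
    have hvw : v ∉ span F {w} := by
      intro h3
      rw [mem_span_singleton] at h3 h
      obtain ⟨a, ha⟩ := h3
      obtain ⟨b, hb⟩ := h
      have ha0 : a ≠ 0 := by
        rintro rfl
        rw [zero_smul] at ha
        exact hv ha.symm
      apply hw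
      rw [mem_span_singleton]
      exact ⟨a⁻¹ * b, by rw [mul_smul, hb, inv_smul_eq_iff₀ ha0, ha]⟩
    have hw0 : w ≠ 0 := by
      rintro rfl
      exact hw (zero_mem _)
    obtain ⟨g, hg, γ, h1, h2, h3⟩ := key u w hu hw
    obtain ⟨g', hg', γ', h1', h2', h3'⟩ := key w v hw0 hvw
    refine ⟨g' * g, s.M.mul_mem hg' hg, γ.trans γ', ?_, ?_, ?_⟩
    · intro a x
      change γ' (γ (a • x)) = a • γ' (γ x)
      rw [h1, h1']
    · intro x
      change g' * g * β x * (g' * g)⁻¹ = β (γ' (γ x))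
      rw [← h2', ← h2]
      group
    · change γ' (γ u) = v
      rw [h3, h3']
  · exact key u v hu h

/-- **`HYP(m, q)`** -/
structure Hyp (F₁ F₂ : Type*) {G X₁ X₂ : Type*} [Group G] [Field F₁] [Field F₂] [AddCommGroup X₁]
    [Module F₁ X₁] [AddCommGroup X₂] [Module F₂ X₂] (β₁ : X₁ → G) (β₂ : X₂ → G) (e₁ : X₁)
    (e₂ : X₂) : Prop where
  s₁ : Side F₁ β₁
  s₂ : Side F₂ β₂
  card : Nat.card F₁ = Nat.card F₂
  rank : finrank F₁ X₁ = finrank F₂ X₂
  three : 3 ≤ finrank F₁ X₁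
  e₁0 : e₁ ≠ 0
  e₂0 : e₂ ≠ 0
  line : ∀ g : G, (∃ a : F₁, β₁ (a • e₁) = g) ↔ ∃ a : F₂, β₂ (a • e₂) = g
  comm : ∀ x y, ∃ a : F₁, β₁ x * β₂ y * (β₁ x)⁻¹ * (β₂ y)⁻¹ = β₁ (a • e₁)
  ne : ∃ x y, β₁ x * β₂ y ≠ β₂ y * β₁ x
  norm : ∀ g : G, (∀ a : F₁, ∃ b : F₁, g * β₁ (a • e₁) * g⁻¹ = β₁ (b • e₁)) → g ∈ s₁.M ∧ g ∈ s₂.M

end Cfsg.Agent.Omega.LN
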