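import Cfsg.Agent.Lib.FTPG
import Cfsg.Agent.LieClassical.SLGen
import Mathlib.LinearAlgebra.Transvection.Basic
import Mathlib.LinearAlgebra.Projectivization.Action

/-!
# Identification of `PSL` from a group of collineations

`G` finite simple, faithful and transitive on the points of a projective space of vector dimension at least `3` over `F`,
preserving collinearity and containing all transvections with one given axis: `G` is `PSL (Fin n) F`.
-/

set_option autoImplicit false

open Submodule Module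

namespace Cfsg.Agent.Omega.LN.PslOf

/-- `θ : V → Ω` identifies `Ω` with the projective space of `V`, and `G` preserves collinearity. -/
structure Coord (F : Type*) {V Ω : Type*} [Field F] [AddCommGroup V] [Module F V] (G : Type*)
    [Group G] [MulAction G Ω] (θ : V → Ω) : Prop where
  inj : ∀ v w, v ≠ 0 → w ≠ 0 → θ v = θ w → ∃ c : F, w = c • v
  smul : ∀ (c : F) v, c ≠ 0 → v ≠ 0 → θ (c • v) = θ v
  surj : ∀ x : Ω, ∃ v, v ≠ 0 ∧ θ v = x
  coll : ∀ (g : G) (u v w u' v' w' : V), u ≠ 0 → v ≠ 0 → w ≠ 0 → u' ≠ 0 → v' ≠ 0 → w' ≠ 0 →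
    θ u' = g • θ u → θ v' = g • θ v → θ w' = g • θ w → w ∈ span F {u, v} → w' ∈ span F {u', v'}

variable {G Ω F V : Type*} [Group G] [MulAction G Ω] [Field F] [AddCommGroup V] [Module F V]
  {θ : V → Ω}

/-- every element of `G` is semilinear -/
theorem Coord.semilinear (C : Coord F G θ) (hdim : ∀ u v : V, ∃ w, w ∉ span F {u, v}) (g : G) :
    ∃ (σ : F ≃+* F) (γ : V ≃+ V), (∀ (a : F) (v : V), γ (a • v) = σ a • γ v) ∧
      ∀ v, v ≠ 0 → g • θ v = θ (γ v) := by
  classical
  have h1 : ∀ (g : G) (v : V), ∃ w : V, v ≠ 0 → w ≠ 0 ∧ θ w = g • θ v := by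
    intro g v
    obtain ⟨w, hw, hw'⟩ := C.surj (g • θ v)
    exact ⟨w, fun _ => ⟨hw, hw'⟩⟩
  choose t ht using h1
  obtain ⟨σ, γ, hσ, hγ⟩ := Lib.FTPG.ftpg (F := F) (F' := F) hdim (t g) (fun v hv => (ht g v hv).1)
    (by
      intro u v w hu hv hw
      constructor
      · intro h
        exact C.coll g u v w _ _ _ hu hv hw (ht g u hu).1 (ht g v hv).1 (ht g w hw).1 (ht g u hu).2
          (ht g v hv).2 (ht g w hw).2 h
      · intro h
        refine C.coll g⁻¹ _ _ _ u v w (ht g u hu).1 (ht g v hv).1 (ht g w hw).1 hu hv hw ?_ ?_ ?_ h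
        · rw [(ht g u hu).2, inv_smul_smul]
        · rw [(ht g v hv).2, inv_smul_smul]
        · rw [(ht g w hw).2, inv_smul_smul])
    (by
      intro y hy
      obtain ⟨x, hx, hx'⟩ := C.surj (g⁻¹ • θ y)
      refine ⟨x, hx, ?_⟩
      have h2 : θ (t g x) = θ y := by rw [(ht g x hx).2, hx', smul_inv_smul]
      obtain ⟨c, hc⟩ := C.inj _ _ (ht g x hx).1 hy h2
      rw [hc]
      exact smul_mem _ _ (mem_span_singleton_self _))
  refine ⟨σ, γ, hσ, fun v hv => ?_⟩
  obtain ⟨c, hc, hcv⟩ := hγ v hv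
  have h3 : γ v ≠ 0 := by
    intro h4
    exact hv (γ.injective (by rw [h4, map_zero]))
  rw [← (ht g v hv).2, hcv, C.smul c _ hc h3]

/-- `g` acts as the transvection `v ↦ v + φ v • b` -/
def Acts (θ : V → Ω) (g : G) (φ : Dual F V) (b : V) : Prop :=
  ∀ v, v ≠ 0 → g • θ v = θ (v + φ v • b)

/-- the functionals all of whose transvections are in `G` -/
def T (G : Type*) [Group G] [MulAction G Ω] (θ : V → Ω) : Set (Dual F V) :=
  {φ | ∀ b, φ b = 0 → ∃ g : G, Acts θ g φ b}

theorem zero_mem_T : (0 : Dual F V) ∈ T G θ := by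
  intro b _
  refine ⟨1, fun v _ => ?_⟩
  simp

theorem smul_mem_T {φ : Dual F V} (h : φ ∈ T G θ) (c : F) : c • φ ∈ T G θ := by
  rcases eq_or_ne c 0 with rfl | hc
  · rw [zero_smul]; exact zero_mem_T
  · intro b hb
    have h1 : φ (c • b) = 0 := by
      have h2 : c * φ b = 0 := by simpa using hb
      rw [map_smul, smul_eq_mul, h2]
    obtain ⟨g, hg⟩ := h (c • b) h1
    refine ⟨g, fun v hv => ?_⟩
    rw [hg v hv]
    congr 2
    rw [LinearMap.smul_apply, smul_smul, smul_eq_mul, mul_comm]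

/-- the transform of a functional by a semilinear map -/
def conjDual (σ : F ≃+* F) (γ : V ≃+ V) (h : ∀ (a : F) (v : V), γ (a • v) = σ a • γ v)
    (φ : Dual F V) : Dual F V where
  toFun v := σ (φ (γ.symm v))
  map_add' u v := by rw [map_add, map_add, map_add]
  map_smul' a v := by
    have h1 : γ.symm (a • v) = σ.symm a • γ.symm v := by
      rw [AddEquiv.symm_apply_eq, h, RingEquiv.apply_symm_apply, AddEquiv.apply_symm_apply]
    rw [h1, map_smul, smul_eq_mul, map_mul, RingEquiv.apply_symm_apply, RingHom.id_apply, smul_eq_mul]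

theorem conjDual_mem_T {σ : F ≃+* F} {γ : V ≃+ V} (h : ∀ (a : F) (v : V), γ (a • v) = σ a • γ v)
    {g : G} (hg : ∀ v, v ≠ 0 → g • θ v = θ (γ v)) {φ : Dual F V} (hφ : φ ∈ T G θ) :
    conjDual σ γ h φ ∈ T G θ := by
  intro b hb
  have h1 : φ (γ.symm b) = 0 := by
    have h2 : σ (φ (γ.symm b)) = 0 := hb
    exact (map_eq_zero_iff σ σ.injective).mp h2
  obtain ⟨k, hk⟩ := hφ _ h1
  refine ⟨g * k * g⁻¹, fun v hv => ?_⟩
  have hv' : γ.symm v ≠ 0 := fun h3 => hv ((map_eq_zero_iff γ.symm γ.symm.injective).mp h3)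
  have h3 : g⁻¹ • θ v = θ (γ.symm v) := by
    rw [inv_smul_eq_iff, hg _ hv', AddEquiv.apply_symm_apply]
  have h4 : γ.symm v + φ (γ.symm v) • γ.symm b ≠ 0 := by
    intro h5
    have h6 : φ (γ.symm v) = 0 := by
      have h7 := congrArg φ h5
      rwa [map_add, map_smul, h1, smul_zero, add_zero, map_zero] at h7
    rw [h6, zero_smul, add_zero] at h5
    exact hv' h5
  rw [mul_smul, mul_smul, h3, hk _ hv', hg _ h4, map_add, h, AddEquiv.apply_symm_apply,
    AddEquiv.apply_symm_apply]
  rfl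

theorem Acts.add {φ ψ : Dual F V} {b : V} (hψ : ψ b = 0) {g : G} (hg : Acts θ g ψ b)
    (hφ : φ ∈ T G θ) : φ - φ b • ψ ∈ T G θ := by
  -- conjugation by the transvection `v ↦ v + ψ v • b`
  let γ : V ≃+ V :=
    { toFun := fun v => v + ψ v • b
      invFun := fun v => v - ψ v • b
      left_inv := fun v => by
        simp [hψ]
      right_inv := fun v => by
        simp [hψ]
      map_add' := fun u v => by
        simp only [map_add, add_smul]
        abel }
  have h1 : ∀ (a : F) (v : V), γ (a • v) = (RingEquiv.refl F) a • γ v := by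
    intro a v
    change a • v + ψ (a • v) • b = a • (v + ψ v • b)
    rw [map_smul, smul_add, smul_smul, smul_eq_mul]
  have h2 := conjDual_mem_T (σ := RingEquiv.refl F) (γ := γ) h1 (g := g) hg hφ
  convert h2 using 1
  ext v
  change φ v - φ b * ψ v = φ (v - ψ v • b)
  rw [map_sub, map_smul, smul_eq_mul, mul_comm]

theorem exists_separating {φ ψ : Dual F V} (h : ∀ c : F, φ ≠ c • ψ) : ∃ b, ψ b = 0 ∧ φ b = 1 := by
  by_contra hcon
  push Not at hcon
  have h1 : ∀ b, ψ b = 0 → φ b = 0 := by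
    intro b hb
    by_contra h2
    apply hcon ((φ b)⁻¹ • b)
    · rw [map_smul, hb, smul_zero]
    · rw [map_smul, smul_eq_mul, inv_mul_cancel₀ h2]
  by_cases h2 : ψ = 0
  · apply h 0
    ext b
    rw [h1 b (by rw [h2]; rfl), zero_smul]
    rfl
  · obtain ⟨e, he⟩ : ∃ e, ψ e ≠ 0 := by
      by_contra h3
      push Not at h3
      exact h2 (LinearMap.ext h3)
    apply h (φ e / ψ e)
    ext v
    have h3 : φ (v - (ψ v / ψ e) • e) = 0 := by
      apply h1
      rw [map_sub, map_smul, smul_eq_mul, div_mul_cancel₀ _ he, sub_self]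
    rw [map_sub, map_smul, smul_eq_mul, sub_eq_zero] at h3
    rw [h3, LinearMap.smul_apply, smul_eq_mul]
    ring

/-- `T` is a subspace of the dual -/
def TSub (G : Type*) [Group G] [MulAction G Ω] (F : Type*) [Field F] {V : Type*} [AddCommGroup V]
    [Module F V] (θ : V → Ω) : Submodule F (Dual F V) where
  carrier := T G θ
  zero_mem' := zero_mem_T
  smul_mem' c φ h := smul_mem_T h c
  add_mem' := by
    intro φ ψ hφ hψ
    by_cases h : ∃ c : F, φ = c • ψ
    · obtain ⟨c, rfl⟩ := h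
      have h1 : c • ψ + ψ = (c + 1) • ψ := by rw [add_smul, one_smul]
      rw [h1]
      exact smul_mem_T hψ _
    · push Not at h
      obtain ⟨b, hb, hb1⟩ := exists_separating h
      obtain ⟨g, hg⟩ := hψ (-b) (by rw [map_neg, hb, neg_zero])
      have h2 := Acts.add (by rw [map_neg, hb, neg_zero]) hg hφ
      have h3 : φ - φ (-b) • ψ = φ + ψ := by
        ext v
        rw [map_neg, hb1, LinearMap.sub_apply, LinearMap.smul_apply, LinearMap.add_apply, smul_eq_mul]
        ring
      rwa [h3] at h2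

theorem TSub_eq_top [FiniteDimensional F V] (C : Coord F G θ)
    (hdim : ∀ u v : V, ∃ w, w ∉ span F {u, v})
    (htr : ∀ x y : Ω, ∃ g : G, g • x = y) {φ₀ : Dual F V} (h0 : φ₀ ≠ 0) (hφ : φ₀ ∈ T G θ) :
    TSub G F θ = ⊤ := by
  by_contra hcon
  -- a vector killed by all the functionals
  obtain ⟨v₀, hv₀, hk⟩ : ∃ v₀ : V, v₀ ≠ 0 ∧ ∀ φ ∈ TSub G F θ, φ v₀ = 0 := by
    by_contra h1
    push Not at h1
    apply hcon
    have h2 : (TSub G F θ).dualCoannihilator = ⊥ := by
      rw [eq_bot_iff]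
      intro v hv
      rw [mem_bot]
      by_contra hv0
      obtain ⟨φ, hφ1, hφ2⟩ := h1 v hv0
      exact hφ2 ((mem_dualCoannihilator v).mp hv φ hφ1)
    have h3 := Subspace.dualCoannihilator_dualAnnihilator_eq (K := F) (V := V) (W := TSub G F θ)
    rw [h2, dualAnnihilator_bot] at h3
    exact h3.symm
  apply h0
  ext w
  rw [LinearMap.zero_apply]
  by_cases hw : w = 0
  · rw [hw, map_zero]
  obtain ⟨g, hg⟩ := htr (θ w) (θ v₀)
  obtain ⟨σ, γ, hσ, hγ⟩ := C.semilinear hdim g
  have h1 : conjDual σ γ hσ φ₀ ∈ TSub G F θ := conjDual_mem_T hσ hγ hφ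
  have h2 := hk _ h1
  have h3 : φ₀ (γ.symm v₀) = 0 := (map_eq_zero_iff σ σ.injective).mp h2
  have h4 : θ (γ w) = θ v₀ := by rw [← hγ w hw, hg]
  have h5 : γ w ≠ 0 := fun h6 => hw ((map_eq_zero_iff γ γ.injective).mp h6)
  obtain ⟨c, hc⟩ := C.inj _ _ h5 hv₀ h4
  have hc0 : c ≠ 0 := by
    rintro rfl
    exact hv₀ (by rw [hc, zero_smul])
  have h6 : γ.symm v₀ = σ.symm c • w := by
    rw [AddEquiv.symm_apply_eq, hσ, RingEquiv.apply_symm_apply, hc]
  rw [h6, map_smul, smul_eq_mul] at h3
  rcases mul_eq_zero.mp h3 with h7 | h7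
  · exact absurd ((map_eq_zero_iff σ.symm σ.symm.injective).mp h7) hc0
  · exact h7

/-! ### the group -/

section sl

variable {ι : Type*} [Fintype ι] [DecidableEq ι] {θ : (ι → F) → Ω}

/-- a product of transvections acts as an element of `G` -/
theorem exists_act (hT : ∀ φ : Dual F (ι → F), φ ∈ T G θ) (A : Matrix.SpecialLinearGroup ι F) :
    ∃ g : G, ∀ v, v ≠ 0 → g • θ v = θ (A • v) := by
  have hne : ∀ (B : Matrix.SpecialLinearGroup ι F) (v : ι → F), v ≠ 0 → B • v ≠ 0 := by
    intro B v hv h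
    apply hv
    have h1 : B⁻¹ • (B • v) = B⁻¹ • (0 : ι → F) := by rw [h]
    rwa [inv_smul_smul, smul_zero] at h1
  have hA : A ∈ Subgroup.closure (LieClassical.SLGen.transvections ι F) := by
    rw [LieClassical.SLGen.closure_transvections]
    exact Subgroup.mem_top A
  induction hA using Subgroup.closure_induction with
  | mem x hx =>
    obtain ⟨i, j, hij, c, rfl⟩ := hx
    obtain ⟨g, hg⟩ := hT (LinearMap.proj j) (c • Pi.single i (1 : F)) (by simp [hij, hij.symm])
    refine ⟨g, fun v hv => ?_⟩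
    rw [hg v hv, LieClassical.SLGen.transvection_smul]
    congr 2
    rw [smul_smul, mul_comm]
    rfl
  | one => exact ⟨1, fun v _ => by rw [one_smul, one_smul]⟩
  | mul x y _ _ hx hy =>
    obtain ⟨g, hg⟩ := hx
    obtain ⟨k, hk⟩ := hy
    refine ⟨g * k, fun v hv => ?_⟩
    rw [mul_smul, hk v hv, hg _ (hne y v hv), mul_smul]
  | inv x _ hx =>
    obtain ⟨g, hg⟩ := hx
    refine ⟨g⁻¹, fun v hv => ?_⟩
    rw [inv_smul_eq_iff, hg _ (hne _ v hv), smul_inv_smul]

theorem eq_of_act {V : Type*} [AddCommGroup V] [Module F V] {θ : V → Ω}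
    (hf : ∀ g : G, (∀ x : Ω, g • x = x) → g = 1) (C : Coord F G θ) {g h : G}
    (H : ∀ v, v ≠ 0 → g • θ v = h • θ v) : g = h := by
  rw [← inv_mul_eq_one]
  apply hf
  intro x
  obtain ⟨v, hv, rfl⟩ := C.surj x
  rw [mul_smul, inv_smul_eq_iff, H v hv]

theorem smul_ne {B : Matrix.SpecialLinearGroup ι F} {v : ι → F} (hv : v ≠ 0) : B • v ≠ 0 := by
  intro h
  apply hv
  have h1 : B⁻¹ • (B • v) = B⁻¹ • (0 : ι → F) := by rw [h]
  rwa [inv_smul_smul, smul_zero] at h1

/-- the homomorphism `SL → G` -/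
noncomputable def hom (hf : ∀ g : G, (∀ x : Ω, g • x = x) → g = 1) (C : Coord F G θ)
    (hT : ∀ φ : Dual F (ι → F), φ ∈ T G θ) : Matrix.SpecialLinearGroup ι F →* G where
  toFun A := (exists_act hT A).choose
  map_one' := by
    apply eq_of_act hf C
    intro v hv
    rw [(exists_act hT 1).choose_spec v hv, one_smul, one_smul]
  map_mul' A B := by
    apply eq_of_act hf C
    intro v hv
    rw [mul_smul, (exists_act hT (A * B)).choose_spec v hv, (exists_act hT B).choose_spec v hv,
      (exists_act hT A).choose_spec _ (smul_ne hv), mul_smul]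

theorem hom_smul (hf : ∀ g : G, (∀ x : Ω, g • x = x) → g = 1) (C : Coord F G θ)
    (hT : ∀ φ : Dual F (ι → F), φ ∈ T G θ) (A : Matrix.SpecialLinearGroup ι F) {v : ι → F}
    (hv : v ≠ 0) : hom hf C hT A • θ v = θ (A • v) := (exists_act hT A).choose_spec v hv

theorem ker_hom (hf : ∀ g : G, (∀ x : Ω, g • x = x) → g = 1) (C : Coord F G θ)
    (hT : ∀ φ : Dual F (ι → F), φ ∈ T G θ) :
    (hom hf C hT).ker = Subgroup.center (Matrix.SpecialLinearGroup ι F) := by
  rw [← Projectivization.SL_mulAction_ker]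
  ext A
  rw [MonoidHom.mem_ker, MonoidHom.mem_ker]
  constructor
  · intro h
    ext x
    rw [MulAction.toPermHom_apply, MulAction.toPerm_apply, Equiv.Perm.one_apply]
    induction x using Projectivization.ind with
    | h v hv =>
      rw [Projectivization.smul_mk, Projectivization.mk_eq_mk_iff']
      have h1 := hom_smul hf C hT A hv
      rw [h, one_smul] at h1
      obtain ⟨c, hc⟩ := C.inj _ _ (smul_ne hv) hv h1.symm
      have hc0 : c ≠ 0 := by
        rintro rfl
        exact hv (by rw [hc, zero_smul])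
      exact ⟨c⁻¹, by rw [inv_smul_eq_iff₀ hc0]; exact hc⟩
  · intro h
    apply eq_of_act hf C
    intro v hv
    rw [hom_smul hf C hT A hv, one_smul]
    have h1 := congrArg (fun e : Equiv.Perm (Projectivization F (ι → F)) =>
      e (Projectivization.mk F v hv)) h
    rw [MulAction.toPermHom_apply, MulAction.toPerm_apply, Equiv.Perm.one_apply,
      Projectivization.smul_mk, Projectivization.mk_eq_mk_iff'] at h1
    obtain ⟨c, hc⟩ := h1
    have hc0 : c ≠ 0 := by
      rintro rfl
      exact smul_ne hv (by rw [← hc, zero_smul])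
    rw [← hc, C.smul c v hc0 hv]

/-- every transvection is in the image -/
theorem mem_range_of_acts (hf : ∀ g : G, (∀ x : Ω, g • x = x) → g = 1) (C : Coord F G θ)
    (hT : ∀ φ : Dual F (ι → F), φ ∈ T G θ) {g : G} {φ : Dual F (ι → F)} {b : ι → F} (hb : φ b = 0)
    (hg : Acts θ g φ b) : g ∈ (hom hf C hT).range := by
  let M : Matrix ι ι F := LinearMap.toMatrix' (LinearMap.transvection φ b)
  have hM : M.det = 1 := by
    rw [LinearMap.det_toMatrix', LinearMap.transvection.det, hb, add_zero]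
  obtain ⟨B, hB⟩ : ∃ B : Matrix.SpecialLinearGroup ι F, (B : Matrix ι ι F) = M := ⟨⟨M, hM⟩, rfl⟩
  refine ⟨B, ?_⟩
  apply eq_of_act hf C
  intro v hv
  rw [hom_smul hf C hT B hv, hg v hv]
  congr 1
  rw [Matrix.SpecialLinearGroup.smul_def, hB]
  change M.mulVec v = _
  rw [← Matrix.toLin'_apply, Matrix.toLin'_toMatrix', LinearMap.transvection.apply]

/-- **Identification of `PSL`** (standard space) -/
theorem psl_std [IsSimpleGroup G] (hf : ∀ g : G, (∀ x : Ω, g • x = x) → g = 1)
    (C : Coord F G θ) (hdim : ∀ u v : ι → F, ∃ w, w ∉ span F {u, v})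
    (htr : ∀ x y : Ω, ∃ g : G, g • x = y) {φ₀ : Dual F (ι → F)} (h0 : φ₀ ≠ 0) (hφ : φ₀ ∈ T G θ) :
    Nonempty (G ≃* Matrix.ProjectiveSpecialLinearGroup ι F) := by
  have htop := TSub_eq_top C hdim htr h0 hφ
  have hT : ∀ φ : Dual F (ι → F), φ ∈ T G θ := fun φ => by
    have h1 : φ ∈ TSub G F θ := by rw [htop]; exact mem_top
    exact h1
  let N : Subgroup G := Subgroup.closure {g | ∃ (φ : Dual F (ι → F)) (b : ι → F), φ b = 0 ∧ Acts θ g φ b}
  have hN : N ≤ (hom hf C hT).range := by
    rw [Subgroup.closure_le]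
    rintro g ⟨φ, b, hb, hg⟩
    exact mem_range_of_acts hf C hT hb hg
  have hNn : N.Normal := by
    refine ⟨fun n hn g => ?_⟩
    induction hn using Subgroup.closure_induction with
    | mem x hx =>
      obtain ⟨φ, b, hb, hx⟩ := hx
      obtain ⟨σ, γ, hσ, hγ⟩ := C.semilinear hdim g
      apply Subgroup.subset_closure
      refine ⟨conjDual σ γ hσ φ, γ b, ?_, fun v hv => ?_⟩
      · change σ (φ (γ.symm (γ b))) = 0
        rw [AddEquiv.symm_apply_apply, hb, map_zero]
      · have hv' : γ.symm v ≠ 0 := fun h3 => hv ((map_eq_zero_iff γ.symm γ.symm.injective).mp h3)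
        have h3 : g⁻¹ • θ v = θ (γ.symm v) := by
          rw [inv_smul_eq_iff, hγ _ hv', AddEquiv.apply_symm_apply]
        have h4 : γ.symm v + φ (γ.symm v) • b ≠ 0 := by
          intro h5
          have h6 : φ (γ.symm v) = 0 := by
            have h7 := congrArg φ h5
            rwa [map_add, map_smul, hb, smul_zero, add_zero, map_zero] at h7
          rw [h6, zero_smul, add_zero] at h5
          exact hv' h5
        rw [mul_smul, mul_smul, h3, hx _ hv', hγ _ h4, map_add, hσ, AddEquiv.apply_symm_apply]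
        rfl
    | one => rw [mul_one, mul_inv_cancel]; exact N.one_mem
    | mul x y _ _ hx hy =>
      have h1 : g * (x * y) * g⁻¹ = (g * x * g⁻¹) * (g * y * g⁻¹) := by group
      rw [h1]
      exact N.mul_mem hx hy
    | inv x _ hx =>
      have h1 : g * x⁻¹ * g⁻¹ = (g * x * g⁻¹)⁻¹ := by group
      rw [h1]
      exact N.inv_mem hx
  have hN1 : N ≠ ⊥ := by
    intro h1
    -- a nontrivial transvection
    obtain ⟨e, he⟩ : ∃ e, φ₀ e ≠ 0 := by
      by_contra h3
      push Not at h3
      exact h0 (LinearMap.ext h3)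
    obtain ⟨b', hb'⟩ := hdim e e
    let b := b' - (φ₀ b' / φ₀ e) • e
    have hb : φ₀ b = 0 := by
      simp only [b]
      rw [map_sub, map_smul, smul_eq_mul, div_mul_cancel₀ _ he, sub_self]
    have hbe : b ∉ span F {e} := by
      intro h2
      apply hb'
      rw [Set.pair_eq_singleton]
      have h3 : b' = b + (φ₀ b' / φ₀ e) • e := by simp only [b]; abel
      rw [h3]
      exact add_mem h2 (smul_mem _ _ (mem_span_singleton_self _))
    obtain ⟨g, hg⟩ := hφ b hb
    have h2 : g ∈ N := Subgroup.subset_closure ⟨φ₀, b, hb, hg⟩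
    rw [h1, Subgroup.mem_bot] at h2
    have he0 : e ≠ 0 := by
      rintro rfl
      exact he (map_zero _)
    have h3 := hg e he0
    rw [h2, one_smul] at h3
    have h4 : e + φ₀ e • b ≠ 0 := by
      intro h5
      apply he
      have h6 := congrArg φ₀ h5
      rwa [map_add, map_smul, hb, smul_zero, add_zero, map_zero] at h6
    obtain ⟨c, hc⟩ := C.inj _ _ he0 h4 h3
    apply hbe
    have h5 : b = (φ₀ e)⁻¹ • ((c - 1) • e) := by
      have h6 : φ₀ e • b = (c - 1) • e := by
        rw [sub_smul, one_smul, ← hc]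
        abel
      rw [← h6, smul_smul, inv_mul_cancel₀ he, one_smul]
    rw [h5]
    exact smul_mem _ _ (smul_mem _ _ (mem_span_singleton_self _))
  have hNtop : N = ⊤ := (hNn.eq_bot_or_eq_top).resolve_left hN1
  have hsurj : Function.Surjective (hom hf C hT) := by
    rw [← MonoidHom.range_eq_top, eq_top_iff, ← hNtop]
    exact hN
  exact ⟨((QuotientGroup.quotientMulEquivOfEq (ker_hom hf C hT).symm).trans
    (QuotientGroup.quotientKerEquivOfSurjective _ hsurj)).symm⟩

end sl

/-- **Identification of `PSL`** -/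
theorem psl [IsSimpleGroup G] [FiniteDimensional F V]
    (hf : ∀ g : G, (∀ x : Ω, g • x = x) → g = 1)
    (C : Coord F G θ) (h3 : 3 ≤ finrank F V)
    (htr : ∀ x y : Ω, ∃ g : G, g • x = y) {φ₀ : Dual F V} (h0 : φ₀ ≠ 0)
    (hφ : ∀ b, φ₀ b = 0 → ∃ g : G, ∀ v, v ≠ 0 → g • θ v = θ (v + φ₀ v • b)) :
    Nonempty (G ≃* Matrix.ProjectiveSpecialLinearGroup (Fin (finrank F V)) F) := by
  classical
  let e : V ≃ₗ[F] (Fin (finrank F V) → F) := (finBasis F V).equivFun
  have hdim : ∀ u v : Fin (finrank F V) → F, ∃ w, w ∉ span F {u, v} := by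
    intro u v
    by_contra hcon
    push Not at hcon
    have h1 : span F {u, v} = (⊤ : Submodule F (Fin (finrank F V) → F)) :=
      eq_top_iff.mpr fun w _ => hcon w
    have h2 : finrank F (span F ({u, v} : Set (Fin (finrank F V) → F))) ≤ 2 := by
      refine (finrank_span_le_card (R := F) ({u, v} : Set (Fin (finrank F V) → F))).trans ?_
      have h4 : ({u, v} : Set (Fin (finrank F V) → F)).toFinset.card ≤ ({u, v} : Finset (Fin (finrank F V) → F)).card := by
        apply le_of_eq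
        congr 1
        ext x
        simp
      exact h4.trans Finset.card_le_two
    rw [h1, finrank_top, finrank_fin_fun] at h2
    omega
  have hne : ∀ v : Fin (finrank F V) → F, v ≠ 0 → e.symm v ≠ 0 := fun v hv h =>
    hv ((map_eq_zero_iff e.symm e.symm.injective).mp h)
  have hsp : ∀ (u v w : Fin (finrank F V) → F), w ∈ span F {u, v} ↔
      e.symm w ∈ span F {e.symm u, e.symm v} := by
    intro u v w
    rw [mem_span_pair, mem_span_pair]
    constructor
    · rintro ⟨a, b, rfl⟩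
      exact ⟨a, b, by rw [map_add, map_smul, map_smul]⟩
    · rintro ⟨a, b, h⟩
      refine ⟨a, b, e.symm.injective ?_⟩
      rw [← h, map_add, map_smul, map_smul]
  refine psl_std (θ := θ ∘ e.symm) hf ⟨?_, ?_, ?_, ?_⟩ hdim htr (φ₀ := φ₀ ∘ₗ e.symm.toLinearMap) ?_ ?_
  · intro v w hv hw h
    obtain ⟨c, hc⟩ := C.inj _ _ (hne v hv) (hne w hw) h
    refine ⟨c, e.symm.injective ?_⟩
    rw [hc, map_smul]
  · intro c v hc hv
    change θ (e.symm (c • v)) = θ (e.symm v)
    rw [map_smul, C.smul c _ hc (hne v hv)]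
  · intro x
    obtain ⟨v, hv, hx⟩ := C.surj x
    refine ⟨e v, fun h => hv ((map_eq_zero_iff e e.injective).mp h), ?_⟩
    change θ (e.symm (e v)) = x
    rw [LinearEquiv.symm_apply_apply, hx]
  · intro g u v w u' v' w' hu hv hw hu' hv' hw' h1 h2 h4 h5
    rw [hsp] at h5 ⊢
    exact C.coll g _ _ _ _ _ _ (hne u hu) (hne v hv) (hne w hw) (hne u' hu') (hne v' hv')
      (hne w' hw') h1 h2 h4 h5
  · intro h
    apply h0
    ext v
    have h1 := LinearMap.congr_fun h (e v)
    change φ₀ (e.symm (e v)) = 0 at h1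
    rwa [LinearEquiv.symm_apply_apply] at h1
  · intro b hb
    obtain ⟨g, hg⟩ := hφ (e.symm b) hb
    refine ⟨g, fun v hv => ?_⟩
    change g • θ (e.symm v) = θ (e.symm (v + φ₀ (e.symm v) • b))
    rw [hg _ (hne v hv), map_add, map_smul]

end Cfsg.Agent.Omega.LN.PslOf
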