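import Cfsg.Agent.Omega.LN.Hyp
import Cfsg.Agent.Omega.LN.PslOf

/-!
# `HYP(m, q)`, step (1): fullness
-/

set_option autoImplicit false

open Submodule Module

namespace Cfsg.Agent.Omega.LN.Hyp

variable {F₁ F₂ G X₁ X₂ : Type*} [Group G] [Field F₁] [Field F₂] [AddCommGroup X₁]
  [Module F₁ X₁] [AddCommGroup X₂] [Module F₂ X₂] {β₁ : X₁ → G} {β₂ : X₂ → G} {e₁ : X₁} {e₂ : X₂}

theorem symm (h : Hyp F₁ F₂ β₁ β₂ e₁ e₂) : Hyp F₂ F₁ β₂ β₁ e₂ e₁ where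
  s₁ := h.s₂
  s₂ := h.s₁
  card := h.card.symm
  rank := h.rank.symm
  three := h.rank ▸ h.three
  e₁0 := h.e₂0
  e₂0 := h.e₁0
  line g := (h.line g).symm
  comm := by
    intro y x
    obtain ⟨a, ha⟩ := h.comm x y
    obtain ⟨c, hc⟩ := (h.line _).mp ⟨-a, rfl⟩
    refine ⟨c, ?_⟩
    rw [hc, neg_smul, h.s₁.neg, ← ha]
    group
  ne := by
    obtain ⟨x, y, hxy⟩ := h.ne
    exact ⟨y, x, hxy.symm⟩
  norm := by
    intro g hg
    refine (h.norm g ?_).symm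
    intro a
    obtain ⟨b, hb⟩ := (h.line _).mp ⟨a, rfl⟩
    obtain ⟨c, hc⟩ := hg b
    obtain ⟨d, hd⟩ := (h.line _).mpr ⟨c, rfl⟩
    exact ⟨d, by rw [← hb, hc, hd]⟩

theorem R₁_comm (h : Hyp F₁ F₂ β₁ β₂ e₁ e₂) (a : F₁) (y : X₂) :
    β₁ (a • e₁) * β₂ y = β₂ y * β₁ (a • e₁) := by
  obtain ⟨b, hb⟩ := (h.line _).mp ⟨a, rfl⟩
  rw [← hb]
  exact h.s₂.comm _ _

variable [Finite X₁] [Finite X₂]

theorem A₁_le_M₂ (h : Hyp F₁ F₂ β₁ β₂ e₁ e₂) (x : X₁) : β₁ x ∈ h.s₂.M :=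
  (h.norm _ fun a => ⟨a, by rw [h.s₁.comm, mul_inv_cancel_right]⟩).2

theorem A₂_le_M₁ (h : Hyp F₁ F₂ β₁ β₂ e₁ e₂) (y : X₂) : β₂ y ∈ h.s₁.M :=
  (h.norm _ fun a => ⟨a, by rw [← h.R₁_comm, mul_inv_cancel_right]⟩).1

/-- `β₂ y` acts on `X₁` as a transvection with centre `e₁` -/
theorem exists_φ (h : Hyp F₁ F₂ β₁ β₂ e₁ e₂) (y : X₂) : ∃ φ : Dual F₁ X₁, φ e₁ = 0 ∧
    ∀ x, β₂ y * β₁ x * (β₂ y)⁻¹ = β₁ (x + φ x • e₁) := by
  obtain ⟨σ, γ, hσ, hγ⟩ := h.s₁.semi' (h.A₂_le_M₁ y)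
  have h1 : ∀ a : F₁, γ (a • e₁) = a • e₁ := by
    intro a
    apply h.s₁.injective
    rw [← hγ, ← h.R₁_comm, mul_inv_cancel_right]
  have hσ1 : ∀ a, σ a = a := by
    intro a
    have h2 := h1 a
    rw [hσ, show γ e₁ = e₁ by simpa using h1 1] at h2
    exact smul_left_injective F₁ h.e₁0 h2
  have h2 : ∀ x, ∃ a : F₁, γ x = x + a • e₁ := by
    intro x
    obtain ⟨a, ha⟩ := h.comm x y
    refine ⟨-a, ?_⟩
    apply h.s₁.injective
    rw [← hγ, add_comm, h.s₁.add, neg_smul, h.s₁.neg, ← ha]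
    group
  choose f hf using h2
  have hinj : ∀ {a b : F₁}, a • e₁ = b • e₁ → a = b := fun hab => smul_left_injective F₁ h.e₁0 hab
  refine ⟨{ toFun := f, map_add' := ?_, map_smul' := ?_ }, ?_, ?_⟩
  · intro x x'
    apply hinj
    have h3 := hf (x + x')
    rw [map_add, hf x, hf x'] at h3
    rw [add_smul]
    have h4 : x + x' + (f x • e₁ + f x' • e₁) = x + x' + f (x + x') • e₁ := by
      rw [← h3]; abel
    exact (add_left_cancel h4).symm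
  · intro a x
    apply hinj
    have h3 := hf (a • x)
    rw [hσ, hf x, hσ1, smul_add] at h3
    rw [RingHom.id_apply, smul_eq_mul, mul_smul]
    exact (add_left_cancel h3).symm
  · apply hinj
    have h3 := hf e₁
    have h4 : γ e₁ = e₁ := by simpa using h1 1
    rw [h4] at h3
    rw [zero_smul]
    exact left_eq_add.mp h3
  · intro x
    rw [hγ, hf x]
    rfl

/-- the functional of `y` -/
noncomputable def φ (h : Hyp F₁ F₂ β₁ β₂ e₁ e₂) (y : X₂) : Dual F₁ X₁ := (h.exists_φ y).choose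

theorem φ_e (h : Hyp F₁ F₂ β₁ β₂ e₁ e₂) (y : X₂) : h.φ y e₁ = 0 := (h.exists_φ y).choose_spec.1

theorem conj₂ (h : Hyp F₁ F₂ β₁ β₂ e₁ e₂) (y : X₂) (x : X₁) :
    β₂ y * β₁ x * (β₂ y)⁻¹ = β₁ (x + h.φ y x • e₁) := (h.exists_φ y).choose_spec.2 x

theorem φ_eq (h : Hyp F₁ F₂ β₁ β₂ e₁ e₂) {y : X₂} {ψ : Dual F₁ X₁}
    (H : ∀ x, β₂ y * β₁ x * (β₂ y)⁻¹ = β₁ (x + ψ x • e₁)) : h.φ y = ψ := by
  ext x
  have h1 := H x
  rw [h.conj₂] at h1
  exact smul_left_injective F₁ h.e₁0 (add_left_cancel (h.s₁.injective h1))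

theorem φ_add (h : Hyp F₁ F₂ β₁ β₂ e₁ e₂) (y y' : X₂) : h.φ (y + y') = h.φ y + h.φ y' := by
  apply h.φ_eq
  intro x
  have h1 : β₂ (y + y') * β₁ x * (β₂ (y + y'))⁻¹ = β₂ y * (β₂ y' * β₁ x * (β₂ y')⁻¹) * (β₂ y)⁻¹ := by
    rw [h.s₂.add]; group
  rw [h1, h.conj₂, h.conj₂, map_add, map_smul, h.φ_e, smul_zero, add_zero, LinearMap.add_apply,
    add_smul, add_assoc, add_comm (h.φ y x • e₁)]

theorem commute_iff (h : Hyp F₁ F₂ β₁ β₂ e₁ e₂) (y : X₂) (x : X₁) :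
    β₂ y * β₁ x = β₁ x * β₂ y ↔ h.φ y x = 0 := by
  have h1 := h.conj₂ y x
  constructor
  · intro h2
    rw [h2, mul_inv_cancel_right] at h1
    have h3 := h.s₁.injective h1
    have h4 : h.φ y x • e₁ = (0 : F₁) • e₁ := by
      rw [zero_smul]
      exact (left_eq_add.mp h3)
    exact smul_left_injective F₁ h.e₁0 h4
  · intro h2
    rw [h2, zero_smul, add_zero, mul_inv_eq_iff_eq_mul] at h1
    exact h1

/-- conjugating a functional by a transvection of `M₁` fixing `e₁` -/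
theorem sub_mem (h : Hyp F₁ F₂ β₁ β₂ e₁ e₂) (y : X₂) {χ : Dual F₁ X₁} (hχ : χ e₁ = 0) {b : X₁}
    (hb : χ b = 0) : ∃ y', h.φ y' = h.φ y - h.φ y b • χ := by
  obtain ⟨g, hg, hg'⟩ := h.s₁.sl' χ b hb
  have h1 : g ∈ h.s₂.M := by
    refine (h.norm g fun a => ⟨a, ?_⟩).2
    rw [hg', map_smul, hχ, smul_zero, zero_smul, add_zero]
  obtain ⟨y', hy'⟩ := h.s₂.mem_M.mp h1 y
  refine ⟨y', h.φ_eq fun x => ?_⟩
  have h2 : g⁻¹ * β₁ x * g = β₁ (x - χ x • b) := by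
    have h3 := hg' (x - χ x • b)
    rw [map_sub, map_smul, hb, smul_zero, sub_zero, sub_add_cancel] at h3
    rw [← h3]
    group
  have h4 : g * β₂ y * g⁻¹ * β₁ x * (g * β₂ y * g⁻¹)⁻¹ =
      g * (β₂ y * (g⁻¹ * β₁ x * g) * (β₂ y)⁻¹) * g⁻¹ := by group
  have h5 : χ (x - χ x • b + h.φ y (x - χ x • b) • e₁) = χ x := by
    rw [map_add, map_sub, map_smul, map_smul, hb, hχ, smul_zero, smul_zero, sub_zero, add_zero]
  have h6 : h.φ y (x - χ x • b) = (h.φ y - h.φ y b • χ) x := by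
    rw [map_sub, map_smul, LinearMap.sub_apply, LinearMap.smul_apply, smul_eq_mul, smul_eq_mul,
      mul_comm]
  rw [← hy', h4, h2, h.conj₂, hg', h5, ← h6]
  congr 1
  abel

theorem exists_ne (h : Hyp F₁ F₂ β₁ β₂ e₁ e₂) : ∃ y, h.φ y ≠ 0 := by
  obtain ⟨x, y, hxy⟩ := h.ne
  refine ⟨y, fun h1 => hxy ?_⟩
  have h2 := (h.commute_iff y x).mpr (by rw [h1]; rfl)
  exact h2.symm

theorem exists_not_mem (h : Hyp F₁ F₂ β₁ β₂ e₁ e₂) (u v : X₁) : ∃ w, w ∉ span F₁ {u, v} := by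
  by_contra hcon
  push Not at hcon
  have h3 : span F₁ {u, v} = ⊤ := eq_top_iff.mpr fun x _ => hcon x
  classical
  have h4 := finrank_span_finset_le_card (R := F₁) ({u, v} : Finset X₁)
  have h5 : ((({u, v} : Finset X₁) : Finset X₁) : Set X₁) = {u, v} := by simp
  have h6 : Set.finrank F₁ ((({u, v} : Finset X₁)) : Set X₁) = finrank F₁ (span F₁ {u, v}) := by
    rw [h5]; rfl
  rw [h6, h3, finrank_top] at h4
  have h7 := h4.trans Finset.card_le_two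
  have h8 := h.three
  omega

theorem exists_ker (h : Hyp F₁ F₂ β₁ β₂ e₁ e₂) {φ : Dual F₁ X₁} (hφ : φ e₁ = 0) :
    ∃ x, φ x = 0 ∧ x ∉ span F₁ {e₁} := by
  by_cases h0 : φ = 0
  · obtain ⟨w, hw⟩ := h.exists_not_mem e₁ e₁
    rw [Set.pair_eq_singleton] at hw
    exact ⟨w, by rw [h0]; rfl, hw⟩
  · obtain ⟨u, hu⟩ : ∃ u, φ u ≠ 0 := by
      by_contra h1
      push Not at h1
      exact h0 (LinearMap.ext h1)
    obtain ⟨w, hw⟩ := h.exists_not_mem e₁ u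
    refine ⟨w - (φ w / φ u) • u, ?_, ?_⟩
    · rw [map_sub, map_smul, smul_eq_mul, div_mul_cancel₀ _ hu, sub_self]
    · intro h1
      apply hw
      have h2 : w = (w - (φ w / φ u) • u) + (φ w / φ u) • u := by abel
      rw [h2]
      exact add_mem (span_mono (by simp) h1) (smul_mem _ _ (subset_span (by simp)))

/-- **(1)** fullness -/
theorem full (h : Hyp F₁ F₂ β₁ β₂ e₁ e₂) {χ : Dual F₁ X₁} (hχ : χ e₁ = 0) : ∃ y, h.φ y = χ := by
  obtain ⟨y₀, hy₀⟩ := h.exists_ne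
  -- functionals independent of `φ y₀`
  have key : ∀ χ : Dual F₁ X₁, χ e₁ = 0 → (∀ c : F₁, h.φ y₀ ≠ c • χ) → ∃ y, h.φ y = χ := by
    intro χ hχ hne
    obtain ⟨b, hb, hb1⟩ := PslOf.exists_separating hne
    obtain ⟨y', hy'⟩ := h.sub_mem y₀ hχ hb
    refine ⟨y₀ + -y', ?_⟩
    have h1 : h.φ (-y') = -h.φ y' := by
      rw [eq_neg_iff_add_eq_zero, ← h.φ_add, neg_add_cancel]
      have h2 := h.φ_add 0 0
      rw [add_zero] at h2
      exact left_eq_add.mp h2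
    rw [h.φ_add, h1, hy', hb1, one_smul]
    abel
  by_cases h1 : ∀ c : F₁, h.φ y₀ ≠ c • χ
  · exact key χ hχ h1
  push Not at h1
  obtain ⟨c, hc⟩ := h1
  have hc0 : c ≠ 0 := by
    rintro rfl
    exact hy₀ (by rw [hc, zero_smul])
  have hχ0 : χ ≠ 0 := by
    rintro rfl
    exact hy₀ (by rw [hc, smul_zero])
  obtain ⟨x, hx, hx'⟩ := h.exists_ker hχ
  obtain ⟨ψ, hψ1, hψ2⟩ := exists_dual h.e₁0 hx'
  -- `ψ` and `ψ + χ` are independent of `χ`
  obtain ⟨u, hu⟩ : ∃ u, χ u ≠ 0 := by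
    by_contra h1
    push Not at h1
    exact hχ0 (LinearMap.ext h1)
  have h2 : ∀ (d : F₁), h.φ y₀ ≠ d • ψ := by
    intro d hd
    have h3 : c * χ x = d * ψ x := by
      have h4 := LinearMap.congr_fun (hc.symm.trans hd) x
      simpa using h4
    rw [hx, mul_zero, hψ2, mul_one] at h3
    rw [← h3, zero_smul] at hd
    exact hy₀ hd
  have h3 : ∀ (d : F₁), h.φ y₀ ≠ d • (ψ + χ) := by
    intro d hd
    have h4 : c * χ x = d * (ψ x + χ x) := by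
      have h5 := LinearMap.congr_fun (hc.symm.trans hd) x
      exact h5
    rw [hx, mul_zero, hψ2, add_zero, mul_one] at h4
    rw [← h4, zero_smul] at hd
    exact hy₀ hd
  obtain ⟨y₁, hy₁⟩ := key ψ hψ1 h2
  obtain ⟨y₂, hy₂⟩ := key (ψ + χ) (by rw [LinearMap.add_apply, hψ1, hχ, add_zero]) h3
  refine ⟨y₂ + -y₁, ?_⟩
  have h4 : h.φ (-y₁) = -h.φ y₁ := by
    rw [eq_neg_iff_add_eq_zero, ← h.φ_add, neg_add_cancel]
    have h2 := h.φ_add 0 0
    rw [add_zero] at h2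
    exact left_eq_add.mp h2
  rw [h.φ_add, h4, hy₁, hy₂]
  abel

/-- `φ` as a homomorphism -/
noncomputable def φHom (h : Hyp F₁ F₂ β₁ β₂ e₁ e₂) : X₂ →+ Dual F₁ X₁ :=
  AddMonoidHom.mk' h.φ h.φ_add

/-- **(1)** `C_{A₂}(A₁) = R` -/
theorem mem_line (h : Hyp F₁ F₂ β₁ β₂ e₁ e₂) [Finite F₁] [Finite F₂] {y : X₂} (hy : h.φ y = 0) :
    ∃ a : F₂, y = a • e₂ := by
  have hX₁ : Module.Finite F₁ X₁ := Module.Finite.of_finite
  have hX₂ : Module.Finite F₂ X₂ := Module.Finite.of_finite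
  have hD : Finite (Dual F₁ X₁) := Module.finite_of_finite F₁
  -- the kernel has order `q`
  have hr : (h.φHom.range : Set (Dual F₁ X₁)) = (span F₁ {e₁}).dualAnnihilator := by
    ext χ
    constructor
    · rintro ⟨y, rfl⟩
      rw [SetLike.mem_coe, mem_dualAnnihilator]
      intro w hw
      obtain ⟨a, rfl⟩ := mem_span_singleton.mp hw
      rw [map_smul]
      change a • h.φ y e₁ = 0
      rw [h.φ_e, smul_zero]
    · intro hχ
      rw [SetLike.mem_coe, mem_dualAnnihilator] at hχ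
      obtain ⟨y, hy⟩ := h.full (hχ e₁ (mem_span_singleton_self _))
      exact ⟨y, hy⟩
  have hc1 : Nat.card h.φHom.range = Nat.card F₁ ^ (finrank F₁ X₁ - 1) := by
    have h1 : Nat.card h.φHom.range = Nat.card (span F₁ {e₁}).dualAnnihilator :=
      Nat.card_congr (Equiv.setCongr hr)
    have h2 : finrank F₁ (span F₁ {e₁}) = 1 := finrank_span_singleton h.e₁0
    have h3 := Subspace.finrank_add_finrank_dualAnnihilator_eq (span F₁ {e₁})
    rw [h1, Module.natCard_eq_pow_finrank (K := F₁)]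
    congr 1
    omega
  have hc2 := AddSubgroup.card_eq_card_quotient_mul_card_addSubgroup h.φHom.ker
  rw [Nat.card_congr (QuotientAddGroup.quotientKerEquivRange h.φHom).toEquiv, hc1,
    Module.natCard_eq_pow_finrank (K := F₂), ← h.rank, ← h.card] at hc2
  have hq : 0 < Nat.card F₁ := Nat.card_pos
  have h3 := h.three
  have hc3 : Nat.card h.φHom.ker = Nat.card F₁ := by
    have h4 : Nat.card F₁ ^ finrank F₁ X₁ = Nat.card F₁ ^ (finrank F₁ X₁ - 1) * Nat.card F₁ := by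
      rw [← pow_succ]
      congr 1
      omega
    rw [h4] at hc2
    exact (Nat.eq_of_mul_eq_mul_left (pow_pos hq _) hc2).symm
  -- the line is in the kernel
  let L : AddSubgroup X₂ := (span F₂ {e₂}).toAddSubgroup
  have hL : L ≤ h.φHom.ker := by
    intro y hy
    obtain ⟨a, rfl⟩ := mem_span_singleton.mp hy
    rw [AddMonoidHom.mem_ker]
    change h.φ (a • e₂) = 0
    apply h.φ_eq
    intro x
    rw [h.symm.R₁_comm, mul_inv_cancel_right, LinearMap.zero_apply, zero_smul, add_zero]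
  have hcL : Nat.card L = Nat.card F₁ := by
    have h4 : Nat.card L = Nat.card (span F₂ {e₂}) := rfl
    rw [h4, Module.natCard_eq_pow_finrank (K := F₂), finrank_span_singleton h.e₂0, pow_one, h.card]
  have hLk : L = h.φHom.ker := by
    apply AddSubgroup.eq_of_le_of_card_ge hL
    rw [hc3, hcL]
  have h5 : y ∈ L := by
    rw [hLk, AddMonoidHom.mem_ker]
    exact hy
  obtain ⟨a, ha⟩ := mem_span_singleton.mp h5
  exact ⟨a, ha.symm⟩

end Cfsg.Agent.Omega.LN.Hyp
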