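import Cfsg.Agent.Omega.LN.PslOf

/-!
# Coordinates from points and hyperplanes

`Pre`: points and hyperplanes permuted by `G`; one hyperplane `H₀` whose points are the lines of an `F`-space `X` and whose
translation group is `β : X → G`.  Then the points are the projective space of `X × F` and `G` is `PSL`.
-/

set_option autoImplicit false

open Submodule Module

namespace Cfsg.Agent.Omega.LN

/-- Points, hyperplanes, one hyperplane with coordinates -/
structure Pre (F : Type*) {G Pt Hy X : Type*} [Group G] [MulAction G Pt] [MulAction G Hy] [Field F]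
    [AddCommGroup X] [Module F X] (inc : Pt → Hy → Prop) (H₀ : Hy) (π : X → Pt) (β : X → G) :
    Prop where
  inc_smul : ∀ (g : G) p H, inc p H → inc (g • p) (g • H)
  trH : ∀ H, ∃ g : G, g • H₀ = H
  add : ∀ x y, β (x + y) = β x * β y
  inj : ∀ x, β x = 1 → x = 0
  π_inc : ∀ x, x ≠ 0 → inc (π x) H₀
  π_surj : ∀ p, inc p H₀ → ∃ x, x ≠ 0 ∧ π x = p
  π_eq : ∀ x y, x ≠ 0 → y ≠ 0 → (π x = π y ↔ ∃ c : F, y = c • x)
  fix : ∀ x y, x ≠ 0 → β y • π x = π x
  hyp : ∀ x H, x ≠ 0 → inc (π x) H → β x • H = H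
  tr : ∀ o o', ¬ inc o H₀ → ¬ inc o' H₀ → ∃ x, β x • o = o'
  two : ∀ p p', ∃ H, inc p H ∧ inc p' H
  col : ∀ x y p, x ≠ 0 → y ≠ 0 →
    ((∀ H, inc (π x) H → inc (π y) H → inc p H) ↔ ∃ z, z ≠ 0 ∧ z ∈ span F {x, y} ∧ π z = p)

namespace Pre

variable {F G Pt Hy X : Type*} [Group G] [MulAction G Pt] [MulAction G Hy] [Field F]
  [AddCommGroup X] [Module F X] {inc : Pt → Hy → Prop} {H₀ : Hy} {π : X → Pt} {β : X → G}

/-- `c` is on every hyperplane through `a` and `b` -/
def Col (inc : Pt → Hy → Prop) (a b c : Pt) : Prop := ∀ H, inc a H → inc b H → inc c H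

theorem Col.symm {a b c : Pt} (h : Col inc a b c) : Col inc b a c := fun H h1 h2 => h H h2 h1

theorem inc_iff (P : Pre F inc H₀ π β) (g : G) (p : Pt) (H : Hy) : inc (g • p) (g • H) ↔ inc p H := by
  constructor
  · intro h
    have h1 := P.inc_smul g⁻¹ _ _ h
    rwa [inv_smul_smul, inv_smul_smul] at h1
  · exact P.inc_smul g p H

theorem col_smul (P : Pre F inc H₀ π β) (g : G) {a b c : Pt} (h : Col inc a b c) :
    Col inc (g • a) (g • b) (g • c) := by
  intro H h1 h2
  have h3 : H = g • (g⁻¹ • H) := (smul_inv_smul g H).symm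
  rw [h3, P.inc_iff] at h1 h2 ⊢
  exact h _ h1 h2

theorem col_iff (P : Pre F inc H₀ π β) {x y : X} (hx : x ≠ 0) (hy : y ≠ 0) {p : Pt} :
    Col inc (π x) (π y) p ↔ ∃ z, z ≠ 0 ∧ z ∈ span F {x, y} ∧ π z = p := P.col x y p hx hy

/-- exchange -/
theorem exchange (P : Pre F inc H₀ π β) {a b c : Pt} (h : Col inc a b c) (hc : c ≠ a) :
    Col inc a c b := by
  obtain ⟨H, ha, hb⟩ := P.two a b
  obtain ⟨g, rfl⟩ := P.trH H
  have ha' : inc (g⁻¹ • a) H₀ := by
    have h1 := P.inc_smul g⁻¹ _ _ ha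
    rwa [inv_smul_smul] at h1
  have hb' : inc (g⁻¹ • b) H₀ := by
    have h1 := P.inc_smul g⁻¹ _ _ hb
    rwa [inv_smul_smul] at h1
  obtain ⟨x, hx, hxa⟩ := P.π_surj _ ha'
  obtain ⟨y, hy, hyb⟩ := P.π_surj _ hb'
  have h1 := P.col_smul g⁻¹ h
  rw [← hxa, ← hyb, P.col_iff hx hy] at h1
  obtain ⟨z, hz, hz1, hz2⟩ := h1
  have hzx : π z ≠ π x := by
    rw [hz2, hxa]
    intro h2
    exact hc (smul_left_cancel _ h2)
  have h3 : Col inc (π x) (π z) (π y) := by
    rw [P.col_iff hx hz]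
    refine ⟨y, hy, ?_, rfl⟩
    rw [mem_span_pair] at hz1
    obtain ⟨s, t, hst⟩ := hz1
    have ht : t ≠ 0 := by
      rintro rfl
      apply hzx
      rw [zero_smul, add_zero] at hst
      exact ((P.π_eq x z hx hz).mpr ⟨s, hst.symm⟩).symm
    rw [mem_span_pair]
    refine ⟨- (t⁻¹ * s), t⁻¹, ?_⟩
    rw [← hst, smul_add, smul_smul, smul_smul, inv_mul_cancel₀ ht, one_smul, neg_smul]
    abel
  have h4 := P.col_smul g h3
  rw [hxa, hyb, hz2, smul_inv_smul, smul_inv_smul, smul_inv_smul] at h4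
  exact h4

theorem zero (P : Pre F inc H₀ π β) : β 0 = 1 := by
  have h := P.add 0 0
  rw [add_zero] at h
  exact left_eq_mul.mp h

theorem neg (P : Pre F inc H₀ π β) (x : X) : β (-x) = (β x)⁻¹ := by
  rw [eq_inv_iff_mul_eq_one, ← P.add, neg_add_cancel, P.zero]

/-- `β` acts trivially on `H₀` -/
theorem smul_H₀ (P : Pre F inc H₀ π β) (x : X) : β x • H₀ = H₀ := by
  by_cases hx : x = 0
  · rw [hx, P.zero, one_smul]
  · exact P.hyp x H₀ hx (P.π_inc x hx)

theorem not_inc (P : Pre F inc H₀ π β) {o : Pt} (ho : ¬ inc o H₀) (x : X) : ¬ inc (β x • o) H₀ := by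
  intro h
  rw [← P.smul_H₀ x, P.inc_iff] at h
  exact ho h

/-- `β z • o` is on the line through `o` and `π z` -/
theorem col_trans (P : Pre F inc H₀ π β) (o : Pt) {z : X} (hz : z ≠ 0) :
    Col inc o (π z) (β z • o) := by
  intro H h1 h2
  rw [← P.hyp z H hz h2, P.inc_iff]
  exact h1

/-- the translation group is regular on the points off `H₀` -/
theorem free (P : Pre F inc H₀ π β) (hf : ∀ g : G, (∀ x : Pt, g • x = x) → g = 1) {o : Pt}
    (ho : ¬ inc o H₀) {x : X} (hx : β x • o = o) : x = 0 := by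
  apply P.inj
  apply hf
  intro p
  by_cases hp : inc p H₀
  · obtain ⟨y, hy, rfl⟩ := P.π_surj p hp
    exact P.fix y x hy
  · obtain ⟨y, rfl⟩ := P.tr o p ho hp
    rw [← mul_smul, ← P.add, add_comm, P.add, mul_smul, hx]

/-- the points of the line through `o` (off `H₀`) and `π z` -/
theorem line_iff (P : Pre F inc H₀ π β) {o : Pt} (ho : ¬ inc o H₀) {z : X} (hz : z ≠ 0) (c : Pt) :
    Col inc o (π z) c ↔ c = π z ∨ ∃ t : F, c = β (t • z) • o := by
  constructor
  · intro h
    by_cases hc : c = π z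
    · exact Or.inl hc
    right
    by_cases hcH : inc c H₀
    · exfalso
      have h1 : Col inc (π z) c o := P.exchange h.symm hc
      exact ho (h1 H₀ (P.π_inc z hz) hcH)
    · obtain ⟨y, rfl⟩ := P.tr o c ho hcH
      by_cases hy : y = 0
      · exact ⟨0, by rw [zero_smul, hy]⟩
      by_cases hyo : β y • o = o
      · refine ⟨0, ?_⟩
        rw [hyo, zero_smul, P.zero, one_smul]
      have h1 : Col inc o (π y) (β y • o) := P.col_trans o hy
      have h2 : Col inc o (β y • o) (π y) := P.exchange h1 hyo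
      have h3 : Col inc o (π z) (π y) := fun H h4 h5 => h2 H h4 (h H h4 h5)
      by_cases h4 : π y = π z
      · obtain ⟨t, ht⟩ := (P.π_eq z y hz hy).mp h4.symm
        exact ⟨t, by rw [ht]⟩
      · exfalso
        have h5 : Col inc (π z) (π y) o := P.exchange h3.symm h4
        exact ho (h5 H₀ (P.π_inc z hz) (P.π_inc y hy))
  · rintro (rfl | ⟨t, rfl⟩)
    · exact fun H _ h2 => h2
    · by_cases ht : t = 0
      · rw [ht, zero_smul, P.zero, one_smul]
        exact fun H h1 _ => h1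
      · have h1 : t • z ≠ 0 := smul_ne_zero ht hz
        have h2 := P.col_trans o h1
        rwa [show π (t • z) = π z from ((P.π_eq z (t • z) hz h1).mpr ⟨t, rfl⟩).symm] at h2

open Classical in
/-- the coordinate map -/
noncomputable def θ (π : X → Pt) (β : X → G) (o : Pt) (v : X × F) : Pt :=
  if v.2 = 0 then π v.1 else β (v.2⁻¹ • v.1) • o

theorem θ_zero {o : Pt} (x : X) : θ (F := F) π β o (x, 0) = π x := by
  classical
  rw [θ, if_pos rfl]

theorem θ_one {o : Pt} (x : X) : θ (F := F) π β o (x, 1) = β x • o := by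
  classical
  rw [θ, if_neg one_ne_zero, inv_one, one_smul]

theorem θ_smul (P : Pre F inc H₀ π β) {o : Pt} {c : F} {v : X × F} (hc : c ≠ 0) (hv : v ≠ 0) :
    θ (F := F) π β o (c • v) = θ π β o v := by
  classical
  obtain ⟨x, a⟩ := v
  rw [Prod.smul_mk, θ, θ]
  by_cases ha : a = 0
  · subst ha
    have hx : x ≠ 0 := by
      rintro rfl
      exact hv rfl
    rw [if_pos (by simp), if_pos rfl]
    exact ((P.π_eq x (c • x) hx (smul_ne_zero hc hx)).mpr ⟨c, rfl⟩).symm
  · have h1 : c • a ≠ 0 := mul_ne_zero hc ha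
    rw [if_neg h1, if_neg ha]
    congr 2
    simp only
    rw [smul_smul, smul_eq_mul, mul_inv_rev, mul_assoc, inv_mul_cancel₀ hc, mul_one]

/-- normal form of nonzero vectors up to scalars -/
theorem normal_form (P : Pre F inc H₀ π β) (v : X × F) (hv : v ≠ 0) :
    (∃ x, x ≠ 0 ∧ v = (x, 0)) ∨ ∃ (x : X) (c : F), c ≠ 0 ∧ v = c • ((x, 1) : X × F) := by
  obtain ⟨x, a⟩ := v
  by_cases ha : a = 0
  · subst ha
    left
    exact ⟨x, by rintro rfl; exact hv rfl, rfl⟩
  · right
    refine ⟨a⁻¹ • x, a, ha, ?_⟩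
    rw [Prod.smul_mk, smul_smul, mul_inv_cancel₀ ha, one_smul, smul_eq_mul, mul_one]

theorem col_self (P : Pre F inc H₀ π β) {a c : Pt} (h : Col inc a a c) : c = a := by
  obtain ⟨H, ha, -⟩ := P.two a a
  obtain ⟨g, rfl⟩ := P.trH H
  have ha' : inc (g⁻¹ • a) H₀ := by
    have h1 := P.inc_smul g⁻¹ _ _ ha
    rwa [inv_smul_smul] at h1
  obtain ⟨x, hx, hxa⟩ := P.π_surj _ ha'
  have h1 := P.col_smul g⁻¹ h
  rw [← hxa, P.col_iff hx hx] at h1
  obtain ⟨z, hz, hz1, hz2⟩ := h1
  rw [Set.pair_eq_singleton, mem_span_singleton] at hz1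
  obtain ⟨t, ht⟩ := hz1
  have h2 : π x = π z := (P.π_eq x z hx hz).mpr ⟨t, ht.symm⟩
  rw [hz2, hxa] at h2
  exact (smul_left_cancel _ h2).symm

section coords

variable {o : Pt}

theorem θ_inj (P : Pre F inc H₀ π β) (hf : ∀ g : G, (∀ x : Pt, g • x = x) → g = 1)
    (ho : ¬ inc o H₀) {v w : X × F} (hv : v ≠ 0) (hw : w ≠ 0)
    (h : θ (F := F) π β o v = θ π β o w) : ∃ c : F, w = c • v := by
  rcases P.normal_form v hv with ⟨x, hx, rfl⟩ | ⟨x, c, hc, rfl⟩ <;>
    rcases P.normal_form w hw with ⟨y, hy, rfl⟩ | ⟨y, d, hd, rfl⟩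
  · rw [θ_zero, θ_zero, P.π_eq x y hx hy] at h
    obtain ⟨c, rfl⟩ := h
    exact ⟨c, by rw [Prod.smul_mk, smul_zero]⟩
  · exfalso
    rw [θ_zero, P.θ_smul hd (by simp), θ_one] at h
    exact P.not_inc ho y (by rw [← h]; exact P.π_inc x hx)
  · exfalso
    rw [θ_zero, P.θ_smul hc (by simp), θ_one] at h
    exact P.not_inc ho x (by rw [h]; exact P.π_inc y hy)
  · rw [P.θ_smul hc (by simp), P.θ_smul hd (by simp), θ_one, θ_one] at h
    have h1 : y - x = 0 := by
      apply P.free hf ho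
      rw [sub_eq_add_neg, add_comm, P.add, P.neg, mul_smul, ← h, inv_smul_smul]
    rw [sub_eq_zero] at h1
    subst h1
    exact ⟨d * c⁻¹, by rw [smul_smul, mul_assoc, inv_mul_cancel₀ hc, mul_one]⟩

theorem θ_surj (P : Pre F inc H₀ π β) (ho : ¬ inc o H₀) (p : Pt) :
    ∃ v : X × F, v ≠ 0 ∧ θ π β o v = p := by
  by_cases hp : inc p H₀
  · obtain ⟨x, hx, rfl⟩ := P.π_surj p hp
    exact ⟨(x, 0), by simpa using hx, θ_zero x⟩
  · obtain ⟨x, rfl⟩ := P.tr o p ho hp
    exact ⟨(x, 1), by simp, θ_one x⟩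

theorem mem_span_smul_left {u v w : X × F} {c : F} (hc : c ≠ 0) :
    w ∈ span F {c • u, v} ↔ w ∈ span F {u, v} := by
  rw [mem_span_pair, mem_span_pair]
  constructor
  · rintro ⟨a, b, rfl⟩
    exact ⟨a * c, b, by rw [smul_smul]⟩
  · rintro ⟨a, b, rfl⟩
    exact ⟨a * c⁻¹, b, by rw [smul_smul, mul_assoc, inv_mul_cancel₀ hc, mul_one]⟩

theorem mem_span_smul_right {u v w : X × F} {c : F} (hc : c ≠ 0) :
    w ∈ span F {u, c • v} ↔ w ∈ span F {u, v} := by
  rw [Set.pair_comm, mem_span_smul_left hc, Set.pair_comm]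

/-- case: one point on `H₀`, one off `H₀` -/
theorem hcol_mixed (P : Pre F inc H₀ π β) (hf : ∀ g : G, (∀ x : Pt, g • x = x) → g = 1)
    (ho : ¬ inc o H₀) {x y : X} (hx : x ≠ 0) {w : X × F} (hw : w ≠ 0) :
    Col inc (π x) (β y • o) (θ π β o w) ↔ w ∈ span F {((x, 0) : X × F), (y, 1)} := by
  have h1 : Col inc (π x) (β y • o) (θ π β o w) ↔ Col inc (β y • o) (π x) (θ π β o w) :=
    ⟨Col.symm, Col.symm⟩
  rw [h1, P.line_iff (P.not_inc ho y) hx]
  constructor
  · rintro (h | ⟨t, h⟩)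
    · rw [← θ_zero (F := F) (π := π) (β := β) (o := o) x] at h
      obtain ⟨c, rfl⟩ := P.θ_inj hf ho (by simpa using hx) hw h.symm
      exact smul_mem _ _ (subset_span (by simp))
    · rw [← mul_smul, ← P.add, ← θ_one (F := F) (π := π) (β := β) (o := o) (t • x + y)] at h
      obtain ⟨c, rfl⟩ := P.θ_inj hf ho (by simp) hw h.symm
      refine smul_mem _ _ ?_
      rw [mem_span_pair]
      exact ⟨t, 1, by simp⟩
  · intro h
    rw [mem_span_pair] at h
    obtain ⟨a, b, rfl⟩ := h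
    by_cases hb : b = 0
    · left
      subst hb
      rw [zero_smul, add_zero] at hw ⊢
      have ha : a ≠ 0 := by
        rintro rfl
        exact hw (by rw [zero_smul])
      rw [P.θ_smul ha (by simpa using hx), θ_zero]
    · right
      have h2 : a • ((x, 0) : X × F) + b • ((y, 1) : X × F) = b • (((b⁻¹ * a) • x + y, 1) : X × F) := by
        ext
        · simp [smul_add, smul_smul, mul_inv_cancel_left₀ hb]
        · simp
      rw [h2, P.θ_smul hb (by simp), θ_one]
      exact ⟨b⁻¹ * a, by rw [← mul_smul, ← P.add]⟩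

theorem hcol (P : Pre F inc H₀ π β) (hf : ∀ g : G, (∀ x : Pt, g • x = x) → g = 1)
    (ho : ¬ inc o H₀) {u v w : X × F} (hu : u ≠ 0) (hv : v ≠ 0) (hw : w ≠ 0) :
    Col inc (θ π β o u) (θ π β o v) (θ π β o w) ↔ w ∈ span F {u, v} := by
  rcases P.normal_form u hu with ⟨x, hx, rfl⟩ | ⟨x, c, hc, rfl⟩ <;>
    rcases P.normal_form v hv with ⟨y, hy, rfl⟩ | ⟨y, d, hd, rfl⟩
  · rw [θ_zero, θ_zero, P.col_iff hx hy]
    constructor
    · rintro ⟨z, hz, hz1, hz2⟩
      rw [← θ_zero (F := F) (π := π) (β := β) (o := o) z] at hz2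
      obtain ⟨c, rfl⟩ := P.θ_inj hf ho (by simpa using hz) hw hz2
      refine smul_mem _ _ ?_
      rw [mem_span_pair] at hz1 ⊢
      obtain ⟨a, b, rfl⟩ := hz1
      exact ⟨a, b, by simp⟩
    · intro h
      rw [mem_span_pair] at h
      obtain ⟨a, b, rfl⟩ := h
      have h1 : a • ((x, 0) : X × F) + b • ((y, 0) : X × F) = ((a • x + b • y, 0) : X × F) := by
        ext <;> simp
      rw [h1] at hw ⊢
      rw [θ_zero]
      exact ⟨a • x + b • y, by rintro h2; exact hw (by rw [h2]; rfl),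
        mem_span_pair.mpr ⟨a, b, rfl⟩, rfl⟩
  · rw [θ_zero, P.θ_smul hd (by simp), θ_one, P.hcol_mixed hf ho hx hw, mem_span_smul_right hd]
  · rw [θ_zero, P.θ_smul hc (by simp), θ_one, mem_span_smul_left hc, Set.pair_comm,
      ← P.hcol_mixed hf ho hy hw]
    exact ⟨Col.symm, Col.symm⟩
  · rw [P.θ_smul hc (by simp), P.θ_smul hd (by simp), θ_one, θ_one, mem_span_smul_left hc,
      mem_span_smul_right hd]
    by_cases hxy : x = y
    · subst hxy
      rw [Set.pair_eq_singleton, mem_span_singleton]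
      constructor
      · intro h
        have h1 := P.col_self h
        rw [← θ_one (F := F) (π := π) (β := β) (o := o) x] at h1
        obtain ⟨c, hc⟩ := P.θ_inj hf ho (by simp) hw h1.symm
        exact ⟨c, hc.symm⟩
      · rintro ⟨c, rfl⟩
        have hc : c ≠ 0 := by
          rintro rfl
          exact hw (by rw [zero_smul])
        rw [P.θ_smul hc (by simp), θ_one]
        exact fun H h1 _ => h1
    · have hz : y - x ≠ 0 := sub_ne_zero.mpr (Ne.symm hxy)
      have h1 : β y • o = β (y - x) • β x • o := by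
        rw [← mul_smul, ← P.add, sub_add_cancel]
      have h2 : Col inc (β x • o) (π (y - x)) (β y • o) := by
        rw [h1]
        exact P.col_trans _ hz
      have h3 : β y • o ≠ β x • o := by
        rw [h1]
        intro h4
        exact hz (P.free hf (P.not_inc ho x) h4)
      have h4 : Col inc (β x • o) (β y • o) (π (y - x)) := P.exchange h2 h3
      have h5 : Col inc (β x • o) (β y • o) (θ π β o w) ↔
          Col inc (π (y - x)) (β x • o) (θ π β o w) := by
        constructor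
        · intro h H h6 h7
          exact h H h7 (h2 H h7 h6)
        · intro h H h6 h7
          exact h H (h4 H h6 h7) h6
      rw [h5, P.hcol_mixed hf ho hz hw]
      have h6 : ((y, 1) : X × F) = (y - x, 0) + (x, 1) := by
        ext <;> simp
      rw [h6, mem_span_pair, mem_span_pair]
      constructor
      · rintro ⟨a, b, rfl⟩
        exact ⟨b - a, a, by rw [sub_smul, smul_add]; abel⟩
      · rintro ⟨a, b, rfl⟩
        exact ⟨b, a + b, by rw [add_smul, smul_add]; abel⟩

theorem coord (P : Pre F inc H₀ π β) (hf : ∀ g : G, (∀ x : Pt, g • x = x) → g = 1)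
    (ho : ¬ inc o H₀) : PslOf.Coord F G (θ (F := F) π β o) where
  inj v w hv hw h := P.θ_inj hf ho hv hw h
  smul c v hc hv := P.θ_smul hc hv
  surj x := P.θ_surj ho x
  coll := by
    intro g u v w u' v' w' hu hv hw hu' hv' hw' h1 h2 h3 h4
    rw [← P.hcol hf ho hu hv hw] at h4
    have h5 := P.col_smul g h4
    rw [← h1, ← h2, ← h3, P.hcol hf ho hu' hv' hw'] at h5
    exact h5

end coords

/-- **Identification of `PSL_n(F)`** from points and hyperplanes. -/
theorem psl [Finite F] [Finite X] [IsSimpleGroup G] (P : Pre F inc H₀ π β)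
    (hf : ∀ g : G, (∀ x : Pt, g • x = x) → g = 1) (htr : ∀ p p' : Pt, ∃ g : G, g • p = p')
    (ho : ∃ o, ¬ inc o H₀) (h2 : 2 ≤ finrank F X) :
    Nonempty (G ≃* Matrix.ProjectiveSpecialLinearGroup (Fin (finrank F X + 1)) F) := by
  obtain ⟨o, ho⟩ := ho
  have : Module.Finite F X := Module.Finite.of_finite
  have h3 : finrank F (X × F) = finrank F X + 1 := by
    rw [finrank_prod, finrank_self]
  have h4 := PslOf.psl (G := G) (V := X × F) hf (P.coord hf ho) (by omega) htr
    (φ₀ := LinearMap.snd F X F) (by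
      intro h5
      have h6 := LinearMap.congr_fun h5 ((0, 1) : X × F)
      simp at h6) (by
      rintro ⟨b, a⟩ hb
      have ha : a = 0 := hb
      subst ha
      refine ⟨β b, fun v hv => ?_⟩
      rcases P.normal_form v hv with ⟨x, hx, rfl⟩ | ⟨x, c, hc, rfl⟩
      · rw [θ_zero, P.fix x b hx]
        have h5 : ((x, 0) : X × F) + (LinearMap.snd F X F) (x, 0) • ((b, 0) : X × F) = (x, 0) := by
          simp
        rw [h5, θ_zero]
      · have h5 : c • ((x, 1) : X × F) + (LinearMap.snd F X F) (c • ((x, 1) : X × F)) •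
            ((b, 0) : X × F) = c • ((b + x, 1) : X × F) := by
          ext <;> simp [add_comm]
        rw [h5, P.θ_smul hc (by simp), P.θ_smul hc (by simp), θ_one, θ_one, P.add, mul_smul])
  rwa [h3] at h4

end Pre

end Cfsg.Agent.Omega.LN
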